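import Groth.Agent.DvrDom.Scheme
import Groth.Agent.DomLib.Basic
import Mathlib.RingTheory.PowerSeries.Inverse

/-!
# Points of the closure of the image are reached by discrete valuation rings
-/

set_option autoImplicit false

universe u

open CategoryTheory AlgebraicGeometry TopologicalSpace IsLocalRing

set_option backward.isDefEq.respectTransparency false

namespace Groth.Agent.DvrDom2

/-- the closure of the image of a morphism of finite type to a locally Noetherian scheme is reached by
discrete valuation rings, including the trivial specialisations -/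
theorem exists_dvr_of_closure {X Y : Scheme.{u}} [IsLocallyNoetherian Y] (p : X ⟶ Y) [LocallyOfFiniteType p]
    [QuasiCompact p] {y : Y} (hy : y ∈ closure (Set.range p)) :
    ∃ (A : Type u) (_ : CommRing A) (_ : IsDomain A) (_ : IsDiscreteValuationRing A)
      (g : Spec (CommRingCat.of A) ⟶ Y) (h : Spec (CommRingCat.of (FractionRing A)) ⟶ X),
      g (closedPoint A) = y ∧ h ≫ p = Spec.map (CommRingCat.ofHom (algebraMap A (FractionRing A))) ≫ g := by
  obtain ⟨x, hx⟩ := DomLib.exists_specializes p hy
  by_cases hne : y = p x
  · let A := PowerSeries (X.residueField x)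
    let c : CommRingCat.of (X.residueField x) ⟶ CommRingCat.of A := CommRingCat.ofHom (algebraMap (X.residueField x) A)
    refine ⟨A, inferInstance, inferInstance, inferInstance, Spec.map c ≫ X.fromSpecResidueField x ≫ p,
      Spec.map (CommRingCat.ofHom (algebraMap A (FractionRing A))) ≫ Spec.map c ≫ X.fromSpecResidueField x, ?_, ?_⟩
    · rw [Scheme.Hom.comp_apply, Scheme.Hom.comp_apply, hne]
      exact congrArg p (Scheme.fromSpecResidueField_apply x _)
    · simp only [Category.assoc]
  · obtain ⟨R, g, hR, hg, hgen⟩ := DvrDom.exists_dvr_through p x y hx hne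
    haveI := hR
    let e : X.residueField x ≃ₐ[R] FractionRing R := (FractionRing.algEquiv R (X.residueField x)).symm
    refine ⟨R, inferInstance, inferInstance, hR, g,
      Spec.map (CommRingCat.ofHom e.toRingEquiv.toRingHom) ≫ X.fromSpecResidueField x, hg, ?_⟩
    rw [Category.assoc, ← hgen, ← Spec.map_comp_assoc]
    congr 2
    ext r
    exact e.commutes r

end Groth.Agent.DvrDom2
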